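import Groth.Agent.VBExtLib.Main
import Groth.Agent.LiftThinLib.Main
import Groth.Agent.ResBdyLib.Good
import Groth.Agent.LocFreeCorepLib.Main
import Groth.Agent.CohCmpLib.HomFrame
import Groth.Agent.QCohLib.Push

/-!
# Existence of deformations of vector bundles over semismall extensions
-/

set_option autoImplicit false
set_option linter.style.haveILetI false
set_option linter.unusedSectionVars false
set_option backward.isDefEq.respectTransparency false
set_option maxHeartbeats 1000000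
universe u

open CategoryTheory CategoryTheory.Limits AlgebraicGeometry
open CategoryTheory.Abelian

noncomputable section

namespace VBExtLib

section General

variable {Z Y : Scheme.{u}} (c : Z ⟶ Y)

/-- Tensoring with a vector bundle followed by restriction. -/
def pullTensorIso (E : Y.Modules) :
    (DCoh.tensorBi (X := Y)).obj E ⋙ Scheme.Modules.pullback c ≅
      Scheme.Modules.pullback c ⋙ (DCoh.tensorBi (X := Z)).obj ((Scheme.Modules.pullback c).obj E) :=
  NatIso.ofComponents (fun M => @asIso _ _ _ _ (KFlatLib.pullθ c E M) (KFlatLib.isIso_pullθ c E M))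
    fun f => KFlatLib.pullθ_natural_right c E f

/-- Homomorphisms into a direct image. -/
def homPushIso (E : Y.Modules) (W : Z.Modules) :
    CohCmpLib.homMod E ((Scheme.Modules.pushforward c).obj W) ≅
      (Scheme.Modules.pushforward c).obj (CohCmpLib.homMod ((Scheme.Modules.pullback c).obj E) W) :=
  ((((HomCohLib.homAdj E).comp (Scheme.Modules.pullbackPushforwardAdjunction c)).ofNatIsoLeft
    (pullTensorIso c E)).rightAdjointUniq
    ((Scheme.Modules.pullbackPushforwardAdjunction c).comp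
      (HomCohLib.homAdj ((Scheme.Modules.pullback c).obj E)))).app W

theorem subsingleton_ext_tensor_free_deg (F : Z.Modules) (n d : ℕ) [HasExt.{u} Z.Modules]
    (h : Subsingleton (Ext.{u} F F d)) :
    Subsingleton (Ext.{u} F (((DCoh.tensorBi (X := Z)).obj F).obj (FlatMod.freeMod Z n)) d) := by
  classical
  let L := fun _ : Fin n => Coh.structureModule Z
  let T := (DCoh.tensorBi (X := Z)).obj F
  let π : ∀ j, FlatMod.freeMod Z n ⟶ Coh.structureModule Z := fun j =>
    Sigma.desc fun i => if i = j then 𝟙 _ else 0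
  have hid : ∑ j, π j ≫ Sigma.ι L j = 𝟙 (∐ L) := by
    refine Sigma.hom_ext _ _ fun i => ?_
    rw [Preadditive.comp_sum, Finset.sum_eq_single i]
    · simp [π]; rfl
    · intro j _ hj
      rw [Sigma.ι_desc_assoc, if_neg hj.symm, zero_comp]
    · simp
  let e : T.obj (Coh.structureModule Z) ≅ F :=
    KFlatLib.tensSwap (Coh.structureModule Z) F ≪≫ KFlatLib.tensUnitIso F
  suffices h0 : ∀ z : Ext.{u} F (T.obj (FlatMod.freeMod Z n)) d, z = 0 from ⟨fun a b => by rw [h0 a, h0 b]⟩
  intro z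
  have hid' : ∑ j, T.map (π j ≫ Sigma.ι L j) = 𝟙 (T.obj (∐ L)) := by
    rw [← Functor.map_sum, hid, CategoryTheory.Functor.map_id]
  rw [← Ext.comp_mk₀_id z, show 𝟙 (T.obj (FlatMod.freeMod Z n)) = _ from hid'.symm, Ext.mk₀_sum, Ext.comp_sum]
  refine Finset.sum_eq_zero fun j _ => ?_
  rw [Functor.map_comp, show T.map (π j) ≫ T.map (Sigma.ι L j) =
    (T.map (π j) ≫ e.hom) ≫ (e.inv ≫ T.map (Sigma.ι L j)) by simp]
  rw [← Ext.mk₀_comp_mk₀, ← Ext.comp_assoc_of_second_deg_zero,
    @Subsingleton.elim _ h (z.comp (Ext.mk₀ (T.map (π j) ≫ e.hom)) (add_zero d)) 0, Ext.zero_comp]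

theorem subsingleton_ext_push [IsAffineHom c] [HasExt.{u} Z.Modules] [HasExt.{u} Y.Modules] {E : Y.Modules}
    (hE : FlatMod.IsFinLocFree E) {W : Z.Modules} (hW : FlatMod.IsFinLocFree W) (d : ℕ)
    (h : Subsingleton (Ext.{u} ((Scheme.Modules.pullback c).obj E) W d)) :
    Subsingleton (Ext.{u} E ((Scheme.Modules.pushforward c).obj W) d) := by
  have hE' := KFlatLib.isFinLocFree_pull c hE
  obtain ⟨e₁⟩ := PnDualLib.nonempty_ext_homMod_add hE d ((Scheme.Modules.pushforward c).obj W)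
  obtain ⟨e₂⟩ := PnDualLib.nonempty_ext_homMod_add hE' d W
  haveI : Coh.IsQCoh (CohCmpLib.homMod ((Scheme.Modules.pullback c).obj E) W) :=
    (Groth.Agent.PerfLib.isCoh_of_isFinLocFree (CohCmpLib.isFinLocFree_homMod hE' hW)).1
  obtain ⟨e₃⟩ := QCohLib.nonempty_HH_push c (CohCmpLib.homMod ((Scheme.Modules.pullback c).obj E) W) d
  exact ((e₁.trans (PnDualLib.hmIso (homPushIso c E W) d)).trans (e₃.symm.trans e₂.symm)).toEquiv.subsingleton

end General

open ArtFun ArtFun.Art

variable {k : Type u} [Field k] {X₀ : Scheme.{u}} {x : X₀ ⟶ specPt k} {B A : Art k k} (p : B ⟶ A)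
  (hp : IsSemismallExt p) (ξ : DefSch X₀ x B)

include hp in
/-- A vector bundle extends when the obstruction group vanishes. -/
theorem exists_extension (F : (ξ.baseChange p).total.Modules)
    [DCoh.HasSheafHom ((Scheme.Modules.pullback (ξ.baseChange p).i).obj F)]
    (hF : FlatMod.IsFinLocFree F)
    (h2 : Subsingleton (Coh.HH X₀ ((DCoh.sheafHom ((Scheme.Modules.pullback (ξ.baseChange p).i).obj F)).obj
      ((Scheme.Modules.pullback (ξ.baseChange p).i).obj F)) 2)) :
    ∃ F' : ξ.total.Modules, FlatMod.IsFinLocFree F' ∧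
      Nonempty ((Scheme.Modules.pullback (pullback.fst ξ.f (specMap p))).obj F' ≅ F) := by
  haveI := LiftThinLib.isClosedImmersion_ιT p ξ hp
  let I := LiftThinLib.idT p ξ
  have hI := LiftThinLib.sq_idT p ξ hp
  haveI := SmDefLib.surjective_subschemeι hI
  haveI : EnoughInjectives X₀.Modules := ModSiteLib.sheafOfModules_enoughInjectives (R := X₀.ringCatSheaf)
  haveI : HasExt.{u} X₀.Modules := CategoryTheory.hasExt_of_enoughInjectives _
  haveI : EnoughInjectives I.subscheme.Modules :=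
    ModSiteLib.sheafOfModules_enoughInjectives (R := I.subscheme.ringCatSheaf)
  haveI : HasExt.{u} I.subscheme.Modules := CategoryTheory.hasExt_of_enoughInjectives _
  let ib := (ξ.baseChange p).i
  let t := (LiftThinLib.ιT p ξ).toImage
  let F₀ := (Scheme.Modules.pullback ib).obj F
  have hF₀ := KFlatLib.isFinLocFree_pull ib hF
  let E₀ : I.subscheme.Modules := (Scheme.Modules.pullback (inv t)).obj F
  have hE₀ : FlatMod.IsFinLocFree E₀ := KFlatLib.isFinLocFree_pull (inv t) hF
  let c₀ : X₀ ⟶ I.subscheme := ib ≫ t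
  have hc₀ : c₀ ≫ I.subschemeι = ξ.i := by
    show (ib ≫ t) ≫ _ = _
    rw [Category.assoc, show t ≫ I.subschemeι = LiftThinLib.ιT p ξ from Scheme.Hom.toImage_imageι _]
    exact DefSch.baseChange_i_fst ξ p
  haveI : IsClosedImmersion ib := LiftThinLib.isClosedImmersion_i (ξ.baseChange p)
  haveI : IsIso t := inferInstanceAs (IsIso (LiftThinLib.ιT p ξ).toImage)
  haveI : IsClosedImmersion c₀ := inferInstanceAs (IsClosedImmersion (ib ≫ t))
  let eF : (Scheme.Modules.pullback c₀).obj E₀ ≅ F₀ :=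
    (Scheme.Modules.pullbackComp c₀ (inv t)).app F ≪≫
      (Scheme.Modules.pullbackCongr (show c₀ ≫ inv t = ib by simp [c₀])).app F
  let n := HilbObsTh.kdim p
  obtain ⟨eK⟩ := LiftThinLib.nonempty_pull_idT p ξ hp
  let K := ClSub.idealMod I
  let eK₀ : (Scheme.Modules.pullback I.subschemeι).obj K ≅
      (Scheme.Modules.pushforward c₀).obj (FlatMod.freeMod X₀ n) :=
    (Scheme.Modules.pullback I.subschemeι).mapIso
      ((CycKSuppLib.pushPullIso ξ.i (LiftThinLib.kil_idT p ξ hp)).symm ≪≫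
        (Scheme.Modules.pushforward ξ.i).mapIso eK.symm ≪≫
        ((Scheme.Modules.pushforwardComp c₀ I.subschemeι).app (FlatMod.freeMod X₀ n) ≪≫
          (Scheme.Modules.pushforwardCongr hc₀).app (FlatMod.freeMod X₀ n)).symm) ≪≫
      CycKSuppLib.pullPushIso I.subschemeι _
  let W := ((DCoh.tensorBi (X := X₀)).obj ((Scheme.Modules.pullback c₀).obj E₀)).obj (FlatMod.freeMod X₀ n)
  haveI := KFlatLib.isIso_pullθ I.subschemeι K ((Scheme.Modules.pushforward I.subschemeι).obj E₀)
  haveI := ProjFormLib.isIso_projApp (f := c₀) hE₀ (FlatMod.freeMod X₀ n)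
  let eC : coef I E₀ ≅ (Scheme.Modules.pushforward c₀).obj W :=
    asIso (KFlatLib.pullθ I.subschemeι K ((Scheme.Modules.pushforward I.subschemeι).obj E₀)) ≪≫
      ((DCoh.tensorBi (X := I.subscheme)).obj _).mapIso (CycKSuppLib.pullPushIso I.subschemeι E₀) ≪≫
      KFlatLib.tensSwap _ _ ≪≫ ((DCoh.tensorBi (X := I.subscheme)).obj E₀).mapIso eK₀ ≪≫
      asIso (ProjFormLib.projApp c₀ E₀ (FlatMod.freeMod X₀ n))
  have hext : Subsingleton (Ext.{u} F₀ F₀ 2) := by
    obtain ⟨e⟩ := PnDualLib.nonempty_ext_homMod_add hF₀ 2 F₀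
    exact (e.trans (PnDualLib.hmIso (HomCohLib.sheafHomIso F₀ F₀) 2).symm).toEquiv.subsingleton_congr.2 h2
  have hW : Subsingleton (Ext.{u} ((Scheme.Modules.pullback c₀).obj E₀) W 2) := by
    refine subsingleton_ext_tensor_free_deg _ n 2 ?_
    have h0 : ∀ z : Ext.{u} ((Scheme.Modules.pullback c₀).obj E₀) ((Scheme.Modules.pullback c₀).obj E₀) 2, z = 0 :=
      fun z => by
        have e : (Ext.mk₀ eF.hom).comp ((((Ext.mk₀ eF.inv).comp z (zero_add 2)).comp (Ext.mk₀ eF.hom)
            (add_zero 2)).comp (Ext.mk₀ eF.inv) (add_zero 2)) (zero_add 2) = z := by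
          rw [Ext.comp_assoc_of_second_deg_zero, Ext.mk₀_comp_mk₀, Iso.hom_inv_id, Ext.comp_mk₀_id,
            ← Ext.comp_assoc_of_second_deg_zero, Ext.mk₀_comp_mk₀, Iso.hom_inv_id, Ext.mk₀_id_comp]
        rw [← e, @Subsingleton.elim _ hext (((Ext.mk₀ eF.inv).comp z _).comp (Ext.mk₀ eF.hom) _) 0,
          Ext.zero_comp, Ext.comp_zero]
    exact ⟨fun a b => (h0 a).trans (h0 b).symm⟩
  have hpush := subsingleton_ext_push c₀ hE₀
    (ResBdyLib.isFinLocFree_tens (KFlatLib.isFinLocFree_pull c₀ hE₀) (Groth.Agent.LocFreeCorepLib.isFinLocFree_freeMod n)) 2 hW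
  have h : Subsingleton (Ext.{u} E₀ (coef I E₀) 2) := by
    have h0 : ∀ z : Ext.{u} E₀ (coef I E₀) 2, z = 0 := fun z => by
      have e : (z.comp (Ext.mk₀ eC.hom) (add_zero 2)).comp (Ext.mk₀ eC.inv) (add_zero 2) = z := by
        rw [Ext.comp_assoc_of_second_deg_zero, Ext.mk₀_comp_mk₀, Iso.hom_inv_id, Ext.comp_mk₀_id]
      rw [← e, @Subsingleton.elim _ hpush (z.comp _ _) 0, Ext.zero_comp]
    exact ⟨fun a b => (h0 a).trans (h0 b).symm⟩
  obtain ⟨E, hE, ⟨φ⟩⟩ := exists_lift I hI hE₀ h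
  refine ⟨E, hE, ⟨?_⟩⟩
  exact (Scheme.Modules.pullbackCongr (Scheme.Hom.toImage_imageι (LiftThinLib.ιT p ξ)).symm).app E ≪≫
    ((Scheme.Modules.pullbackComp t I.subschemeι).app E).symm ≪≫ (Scheme.Modules.pullback t).mapIso φ ≪≫
    (Scheme.Modules.pullbackComp t (inv t)).app F ≪≫
    (Scheme.Modules.pullbackCongr (IsIso.hom_inv_id t)).app F ≪≫ (Scheme.Modules.pullbackId _).app F

end VBExtLib
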