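import Groth.Agent.VBExtLib.FlatExt
import Groth.Agent.VBExtLib.Thin
import Groth.Agent.RGFlatLib.EtaleFlat
import Groth.Agent.MiscFlat6.QuasiFlatTop
import Groth.Agent.S2297
import Groth.Agent.QCohLib.Push

/-!
# Flat quasi-coherent modules lift over semismall extensions
-/

set_option autoImplicit false
set_option linter.style.haveILetI false
set_option linter.unusedSectionVars false
set_option backward.isDefEq.respectTransparency false
set_option maxHeartbeats 1000000
universe u

open CategoryTheory CategoryTheory.Limits AlgebraicGeometry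
open CategoryTheory.Abelian
open ArtFun ArtFun.Art

noncomputable section

namespace VBExtLib

theorem exists_qcoh_flat_lift {k : Type u} [Field k] {X : Scheme.{u}} (x : X ⟶ specPt k)
    [HasExt.{u} X.Modules] {E₀ : X.Modules} (hExt : Subsingleton (Ext.{u} E₀ E₀ 2))
    {C' C : Art k k} (π : C' ⟶ C) (hπ : IsSemismallExt π)
    (ξ : DefSch X x C') (XC : Scheme.{u}) (pC : XC ⟶ spec C) (g : XC ⟶ ξ.total)
    (hg : IsPullback g pC ξ.f (specMap π)) (j : X ⟶ XC) (hj : IsPullback j x pC (specRes C))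
    (hjg : j ≫ g = ξ.i) (E : XC.Modules) (hEq : Coh.IsQCoh E) (hEfl : FlatMod.IsFlatOver pC E)
    (e : (Scheme.Modules.pullback j).obj E ≅ E₀) :
    ∃ E' : ξ.total.Modules, Coh.IsQCoh E' ∧ FlatMod.IsFlatOver ξ.f E' ∧
      Nonempty ((Scheme.Modules.pullback g).obj E' ≅ E) := by
  haveI := LiftThinLib.isClosedImmersion_ιT π ξ hπ
  haveI := hEq
  let I := LiftThinLib.idT π ξ
  have hI := LiftThinLib.sq_idT π ξ hπ
  haveI := SmDefLib.surjective_subschemeι hI
  haveI : EnoughInjectives X.Modules := ModSiteLib.sheafOfModules_enoughInjectives (R := X.ringCatSheaf)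
  -- the subscheme is the given thickening
  let t := (LiftThinLib.ιT π ξ).toImage
  haveI : IsIso t := inferInstanceAs (IsIso (LiftThinLib.ιT π ξ).toImage)
  let u : XC ⟶ I.subscheme := hg.isoPullback.hom ≫ t
  haveI : IsIso u := inferInstanceAs (IsIso (hg.isoPullback.hom ≫ t))
  have hu : u ≫ I.subschemeι = g := by
    show (hg.isoPullback.hom ≫ t) ≫ _ = g
    rw [Category.assoc, show t ≫ I.subschemeι = LiftThinLib.ιT π ξ from Scheme.Hom.toImage_imageι _]
    exact hg.isoPullback_hom_fst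
  let f : I.subscheme ⟶ spec C := inv u ≫ pC
  have hf : I.subschemeι ≫ ξ.f = f ≫ specMap π := by
    rw [← cancel_epi u, ← Category.assoc, hu, hg.w]
    simp [f]
  haveI : Flat pC := MorphismProperty.of_isPullback hg ξ.flat
  haveI : Flat f := inferInstanceAs (Flat (inv u ≫ pC))
  let c : X ⟶ I.subscheme := j ≫ u
  have hcι : c ≫ I.subschemeι = ξ.i := by
    show (j ≫ u) ≫ _ = _
    rw [Category.assoc, hu, hjg]
  have hc : IsPullback c x f (specRes C) :=
    hj.of_iso (Iso.refl _) (asIso u) (Iso.refl _) (Iso.refl _) (by simp [c]) (by simp) (by simp [f]) (by simp)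
  haveI : IsClosedImmersion c :=
    MorphismProperty.of_isPullback hc.flip (SmDefLib.isClosedImmersion_specRes C)
  let F := (Scheme.Modules.pullback (inv u)).obj E
  haveI : Coh.IsQCoh F := KFlatLib.isQCoh_pullback (inv u) E
  have hsq : IsPullback (inv u) f pC (𝟙 (spec C)) := IsPullback.of_horiz_isIso ⟨by simp [f]⟩
  have hFfl : ∀ y, FlatA f F y :=
    (isFlatOver_iff f F).1 (RGFlatLib.isFlatOver_pullback_of_isPullback hsq E hEfl)
  let eF : (Scheme.Modules.pullback c).obj F ≅ E₀ :=
    (Scheme.Modules.pullbackComp c (inv u)).app E ≪≫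
      (Scheme.Modules.pullbackCongr (show c ≫ inv u = j by simp [c])).app E ≪≫ e
  let n := HilbObsTh.kdim π
  obtain ⟨eK⟩ := LiftThinLib.nonempty_pull_idT π ξ hπ
  let K := ClSub.idealMod I
  let eK₀ : (Scheme.Modules.pullback I.subschemeι).obj K ≅
      (Scheme.Modules.pushforward c).obj (FlatMod.freeMod X n) :=
    (Scheme.Modules.pullback I.subschemeι).mapIso
      ((CycKSuppLib.pushPullIso ξ.i (LiftThinLib.kil_idT π ξ hπ)).symm ≪≫
        (Scheme.Modules.pushforward ξ.i).mapIso eK.symm ≪≫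
        ((Scheme.Modules.pushforwardComp c I.subschemeι).app (FlatMod.freeMod X n) ≪≫
          (Scheme.Modules.pushforwardCongr hcι).app (FlatMod.freeMod X n)).symm) ≪≫
      CycKSuppLib.pullPushIso I.subschemeι _
  haveI := KFlatLib.isIso_pullθ I.subschemeι K ((Scheme.Modules.pushforward I.subschemeι).obj F)
  let eC : coef I F ≅ ((DCoh.tensorBi (X := I.subscheme)).obj ((Scheme.Modules.pullback I.subschemeι).obj K)).obj F :=
    asIso (KFlatLib.pullθ I.subschemeι K ((Scheme.Modules.pushforward I.subschemeι).obj F)) ≪≫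
      ((DCoh.tensorBi (X := I.subscheme)).obj _).mapIso (CycKSuppLib.pullPushIso I.subschemeι F)
  have hk : CycKSuppLib.Kil c (coef I F) :=
    (LiftHomLib.kil_tensor c F ((CycKSuppLib.kil_push c (FlatMod.freeMod X n)).of_iso eK₀.symm)).of_iso eC.symm
  haveI := KFlatLib.isIso_pullθ c ((Scheme.Modules.pullback I.subschemeι).obj K) F
  let eW : (Scheme.Modules.pullback c).obj (coef I F) ≅ ((DCoh.tensorBi (X := X)).obj E₀).obj (FlatMod.freeMod X n) :=
    (Scheme.Modules.pullback c).mapIso eC ≪≫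
      asIso (KFlatLib.pullθ c ((Scheme.Modules.pullback I.subschemeι).obj K) F) ≪≫
      ((DCoh.tensorBi (X := X)).obj _).mapIso eF ≪≫ KFlatLib.tensSwap _ _ ≪≫
      ((DCoh.tensorBi (X := X)).obj E₀).mapIso
        ((Scheme.Modules.pullback c).mapIso eK₀ ≪≫ CycKSuppLib.pullPushIso c _)
  have hW := subsingleton_ext_tensor_free_deg E₀ n 2 hExt
  have h2 : Subsingleton (Ext.{u} ((Scheme.Modules.pullback c).obj F)
      ((Scheme.Modules.pullback c).obj (coef I F)) 2) := by
    have h0 : ∀ z : Ext.{u} ((Scheme.Modules.pullback c).obj F) ((Scheme.Modules.pullback c).obj (coef I F)) 2,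
        z = 0 := fun z => by
      have e' : (Ext.mk₀ eF.hom).comp ((((Ext.mk₀ eF.inv).comp z (zero_add 2)).comp (Ext.mk₀ eW.hom)
          (add_zero 2)).comp (Ext.mk₀ eW.inv) (add_zero 2)) (zero_add 2) = z := by
        rw [Ext.comp_assoc_of_second_deg_zero, Ext.mk₀_comp_mk₀, Iso.hom_inv_id, Ext.comp_mk₀_id,
          ← Ext.comp_assoc_of_second_deg_zero, Ext.mk₀_comp_mk₀, Iso.hom_inv_id, Ext.mk₀_id_comp]
      rw [← e', @Subsingleton.elim _ hW (((Ext.mk₀ eF.inv).comp z _).comp (Ext.mk₀ eW.hom) _) 0,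
        Ext.zero_comp, Ext.comp_zero]
    exact ⟨fun a b => (h0 a).trans (h0 b).symm⟩
  obtain ⟨P, p, hp, r, -, hr⟩ := exists_refined_flat I f c hI hc hFfl hk h2
  haveI : Epi p := hp
  obtain ⟨E', φ, v, jr, q, w, hv, hmu, hS⟩ := exists_ext_of_retraction I hI p r hr
  haveI := hv
  refine ⟨E', ?_, (isFlatOver_iff ξ.f E').2
    (flatA_of_mono π ξ hπ f hf (flatA_of_iso I f φ.symm hFfl) v hmu), ⟨?_⟩⟩
  · haveI : Coh.IsQCoh (ClSub.idealMod I) := SweepSix.ConormalSpec.isQCoh_idealMod I
    haveI : Coh.IsQCoh ((Scheme.Modules.pushforward I.subschemeι).obj F) :=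
      QCohLib.isQCoh_pushforward I.subschemeι _
    haveI : Coh.IsQCoh ((TK I).obj ((Scheme.Modules.pushforward I.subschemeι).obj F)) :=
      (Groth.Agent.S2297.result (ClSub.idealMod I) ((Scheme.Modules.pushforward I.subschemeι).obj F)).1
    haveI : Coh.IsQCoh (coef I F) := KFlatLib.isQCoh_pullback I.subschemeι _
    haveI : Coh.IsQCoh ((Scheme.Modules.pushforward I.subschemeι).obj (coef I F)) :=
      QCohLib.isQCoh_pushforward I.subschemeι _
    exact QCohLib.isQCoh_of_shortExact hS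
      (h1 := ‹Coh.IsQCoh ((Scheme.Modules.pushforward I.subschemeι).obj (coef I F))›)
      (h3 := ‹Coh.IsQCoh ((Scheme.Modules.pushforward I.subschemeι).obj F)›)
  · exact (Scheme.Modules.pullbackCongr hu.symm).app E' ≪≫
      ((Scheme.Modules.pullbackComp u I.subschemeι).app E').symm ≪≫ (Scheme.Modules.pullback u).mapIso φ ≪≫
      (Scheme.Modules.pullbackComp u (inv u)).app E ≪≫
      (Scheme.Modules.pullbackCongr (IsIso.hom_inv_id u)).app E ≪≫ (Scheme.Modules.pullbackId _).app E

end VBExtLib
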