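import Groth.Agent.LiftThinLib.Free
import Groth.Agent.CohCmpLib.FrameTools
import Groth.Agent.DefLib.ArtFlat
import Groth.Agent.RelFlatLib.Basic
import Groth.Agent.InjModLib.Noeth
import Groth.Agent.CohCmpLib.HomLift
import Groth.Agent.DiagTorLib.Mult

/-!
# Flatness over Artinian algebras and restriction to the closed fibre
-/

set_option autoImplicit false
set_option linter.style.haveILetI false
set_option linter.unusedSectionVars false
set_option backward.isDefEq.respectTransparency false
set_option maxHeartbeats 1000000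
universe u

open CategoryTheory CategoryTheory.Limits AlgebraicGeometry TopologicalSpace Opposite
open ArtFun ArtFun.Art
open DevissLib (St gm gm_app exists_gm_eq)
open scoped TensorProduct

noncomputable section

namespace VBExtLib

section Psi

variable {Z W : Scheme.{u}} (c : Z ⟶ W) [IsClosedImmersion c] (E : W.Modules)

/-- Restriction of a germ to a closed subscheme. -/
theorem exists_psiC (z : Z) :
    ∃ ψ : (St (c z)).obj E →+ (St z).obj ((Scheme.Modules.pullback c).obj E),
      (∀ (r : W.presheaf.stalk (c z)) m, ψ (r • m) = (c.stalkMap z r) • ψ m) ∧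
      (∀ (U : W.Opens) (hz : c z ∈ U) (m : Γ(E, U)),
        ψ (gm E (c z) hz m) = gm _ z (U := c ⁻¹ᵁ U) hz (KFlatLib.puSec c m)) ∧
      Function.Surjective ψ ∧
      ∀ m, ψ m = 0 → m ∈ RingHom.ker (c.stalkMap z).hom •
        (⊤ : Submodule (W.presheaf.stalk (c z)) ((St (c z)).obj E)) := by
  letI := (c.stalkMap z).hom.toAlgebra
  obtain ⟨L, hL⟩ := CohCmpLib.exists_stalkPullEquiv c E z
  let A := W.presheaf.stalk (c z)
  let M := ((St (c z)).obj E : Type u)
  let B := Z.presheaf.stalk z
  have hs : Function.Surjective (algebraMap A B) := c.stalkMap_surjective z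
  refine ⟨AddMonoidHom.mk' (fun m => L ((1 : B) ⊗ₜ[A] m)) fun a b => by rw [TensorProduct.tmul_add, map_add],
    fun r m => ?_, fun U hz m => hL U hz m, fun b => ?_, fun m hm => ?_⟩
  · show L ((1 : B) ⊗ₜ[A] (r • m)) = algebraMap A B r • L ((1 : B) ⊗ₜ[A] m)
    rw [← map_smul L, TensorProduct.tmul_smul, algebraMap_smul]
  · obtain ⟨t, rfl⟩ := L.surjective b
    induction t using TensorProduct.induction_on with
    | zero => exact ⟨0, by rw [map_zero, map_zero]⟩
    | tmul d m =>
      obtain ⟨a, rfl⟩ := hs d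
      refine ⟨a • m, ?_⟩
      show L ((1 : B) ⊗ₜ[A] (a • m)) = _
      rw [← TensorProduct.smul_tmul, Algebra.smul_def, mul_one]
    | add t t' ht ht' =>
      obtain ⟨a, ha⟩ := ht
      obtain ⟨a', ha'⟩ := ht'
      exact ⟨a + a', by rw [map_add, map_add, ha, ha']⟩
  · let J : Submodule A M := RingHom.ker (c.stalkMap z).hom • (⊤ : Submodule A M)
    have h0 : (1 : B) ⊗ₜ[A] m = 0 := L.injective (hm.trans (map_zero L).symm)
    have h1 : (1 : B) ⊗ₜ[A] J.mkQ m = 0 := by
      simpa using congrArg (J.mkQ.lTensor B) h0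
    have hb := DevissLib.bijective_one_tmul (M := M ⧸ J) hs fun a ha q => by
      obtain ⟨w, rfl⟩ := J.mkQ_surjective q
      rw [← map_smul]
      exact (Submodule.Quotient.mk_eq_zero J).2 (Submodule.smul_mem_smul ha trivial)
    exact (Submodule.Quotient.mk_eq_zero J).1 (hb.1 (h1.trans (TensorProduct.tmul_zero _ _).symm))

theorem psiC_natural {E' : W.Modules} (f : E ⟶ E') (z : Z)
    (ψ : (St (c z)).obj E →+ (St z).obj ((Scheme.Modules.pullback c).obj E))
    (hψ : ∀ (U : W.Opens) (hz : c z ∈ U) (m : Γ(E, U)),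
        ψ (gm E (c z) hz m) = gm _ z (U := c ⁻¹ᵁ U) hz (KFlatLib.puSec c m))
    (ψ' : (St (c z)).obj E' →+ (St z).obj ((Scheme.Modules.pullback c).obj E'))
    (hψ' : ∀ (U : W.Opens) (hz : c z ∈ U) (m : Γ(E', U)),
        ψ' (gm E' (c z) hz m) = gm _ z (U := c ⁻¹ᵁ U) hz (KFlatLib.puSec c m)) (m : (St (c z)).obj E) :
    ((St z).map ((Scheme.Modules.pullback c).map f)).hom (ψ m) = ψ' (((St (c z)).map f).hom m) := by
  obtain ⟨U, hU, s, rfl⟩ := exists_gm_eq E (c z) m
  rw [hψ U hU s]
  refine (gm_app ((Scheme.Modules.pullback c).map f) z (U := c ⁻¹ᵁ U) hU _).trans ?_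
  refine Eq.trans ?_ (congrArg ψ' (gm_app f (c z) hU s)).symm
  rw [hψ' U hU]
  exact congrArg (gm _ z (U := c ⁻¹ᵁ U) hU) (KFlatLib.puSec_natural c f s)

end Psi

variable {k : Type u} [Field k] (A : Art k k)

theorem isNilpotent_maximalIdeal : IsNilpotent (IsLocalRing.maximalIdeal A) := by
  haveI : Module.Finite k A := ArtLib.finite_carrier A
  haveI : IsArtinianRing A := IsArtinianRing.of_finite k A
  rw [← IsLocalRing.jacobson_eq_maximalIdeal ⊥ bot_ne_top]
  exact IsArtinianRing.isNilpotent_jacobson_bot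

theorem bijective_toStalk (s : spec A) : Function.Bijective (StructureSheaf.toStalk A s).hom := by
  letI : Algebra A ((spec A).presheaf.stalk s) := StructureSheaf.stalkAlgebra A s
  haveI : IsLocalization.AtPrime ((spec A).presheaf.stalk s) s.asIdeal :=
    StructureSheaf.IsLocalization.to_stalk A s
  have hs : ∀ a ∈ s.asIdeal.primeCompl, IsUnit a := fun a ha => by
    refine IsLocalRing.notMem_maximalIdeal.1 fun hm => ha ?_
    obtain ⟨n, hn⟩ := isNilpotent_maximalIdeal A
    refine s.isPrime.mem_of_pow_mem n ?_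
    have := Ideal.pow_mem_pow hm n
    rw [hn] at this
    rw [(Submodule.mem_bot A).1 this]
    exact zero_mem _
  let e : A ≃ₐ[A] (spec A).presheaf.stalk s := IsLocalization.atUnits A s.asIdeal.primeCompl hs
  have h1 : ((StructureSheaf.toStalk A s).hom : A → _) = e := funext fun z => (e.commutes z).symm
  rw [h1]
  exact e.bijective

variable {A} {W : Scheme.{u}} (f : W ⟶ spec A)

/-- The scalars of the base at a point. -/
def stA (y : W) : (A : Type u) →+* W.presheaf.stalk y :=
  (f.stalkMap y).hom.comp (StructureSheaf.toStalk A (f.base y)).hom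

theorem stA_eq (y : W) {U : W.Opens} (hy : y ∈ U) (a : A) :
    stA f y a = W.presheaf.germ U y hy ((f.appLE ⊤ U le_top) ((Scheme.ΓSpecIso (CommRingCat.of A)).inv a)) := by
  have h1 : (StructureSheaf.toStalk A (f.base y)).hom a =
      (spec A).presheaf.germ ⊤ (f.base y) trivial ((Scheme.ΓSpecIso (CommRingCat.of A)).inv a) := rfl
  refine (congrArg (f.stalkMap y) h1).trans ?_
  rw [Scheme.Hom.germ_stalkMap_apply, Scheme.Hom.appLE, CommRingCat.comp_apply,
    TopCat.Presheaf.germ_res_apply]

/-- Flatness at a point, over the Artinian ring. -/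
def FlatA (M : W.Modules) (y : W) : Prop :=
  letI : Module A ((St y).obj M) := Module.compHom _ (stA f y)
  Module.Flat A ((St y).obj M)

theorem flatA_iff (M : W.Modules) (y : W) : FlatA f M y ↔ FlatMod.IsFlatOverAt f M y := by
  let R := (spec A).presheaf.stalk (f.base y)
  let e : (A : Type u) ≃+* R := RingEquiv.ofBijective (StructureSheaf.toStalk A (f.base y)).hom (bijective_toStalk A _)
  letI : Algebra A R := e.toRingHom.toAlgebra
  letI m1 : Module R ((St y).obj M) := FlatMod.moduleStalkOver f M y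
  letI m2 : Module A ((St y).obj M) := Module.compHom _ (stA f y)
  haveI : IsScalarTower A R ((St y).obj M) := IsScalarTower.of_algebraMap_smul fun _ _ => rfl
  haveI : Module.Flat A R := RingHom.Flat.of_bijective e.bijective
  show Module.Flat A ((St y).obj M) ↔ Module.Flat R ((St y).obj M)
  constructor
  · intro h
    letI : Algebra R A := e.symm.toRingHom.toAlgebra
    haveI : IsScalarTower R A ((St y).obj M) := IsScalarTower.of_algebraMap_smul fun r m =>
      congrArg (· • m) (e.apply_symm_apply r)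
    haveI : Module.Flat R A := RingHom.Flat.of_bijective e.symm.bijective
    exact Module.Flat.trans R A ((St y).obj M)
  · intro h
    exact Module.Flat.trans A R ((St y).obj M)

theorem isFlatOver_iff (M : W.Modules) : FlatMod.IsFlatOver f M ↔ ∀ y, FlatA f M y :=
  forall_congr' fun y => (flatA_iff f M y).symm

theorem stalk_map_smulA {M N : W.Modules} (g : M ⟶ N) (y : W) (a : A) (m : (St y).obj M) :
    ((St y).map g).hom (stA f y a • m) = stA f y a • ((St y).map g).hom m := map_smul _ _ _

theorem flatA_kernel {S : ShortComplex W.Modules} (hS : S.ShortExact) (y : W) (h₂ : FlatA f S.X₂ y)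
    (h₃ : FlatA f S.X₃ y) : FlatA f S.X₁ y := by
  letI : ∀ M : W.Modules, Module A ((St y).obj M) := fun M => Module.compHom _ (stA f y)
  let lin : ∀ {M N : W.Modules} (g : M ⟶ N), (St y).obj M →ₗ[A] (St y).obj N := fun g =>
    { toFun := ((St y).map g).hom, map_add' := map_add _, map_smul' := fun a m => stalk_map_smulA f g y a m }
  have hx := hS.map_of_exact (St y)
  haveI : Module.Flat A ((St y).obj S.X₂) := h₂
  haveI : Module.Flat A ((St y).obj S.X₃) := h₃
  haveI : Module.Free A ((St y).obj S.X₃) := DefLib.free_of_flat_of_nilpotent (isNilpotent_maximalIdeal A)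
  haveI : Module.Projective A ((St y).obj S.X₃) := Module.Projective.of_free
  have hg : Function.Surjective (lin S.g) := (ModuleCat.epi_iff_surjective _).1 hx.epi_g
  obtain ⟨σ, hσ⟩ := Module.projective_lifting_property (lin S.g) LinearMap.id hg
  have hmem : ∀ m, lin S.g (m - σ (lin S.g m)) = 0 := fun m => by
    rw [map_sub, show lin S.g (σ (lin S.g m)) = lin S.g m from LinearMap.congr_fun hσ _, sub_self]
  have hinj : Function.Injective (lin S.f) := (ModuleCat.mono_iff_injective _).1 hx.mono_f
  have hr : ∀ m, ∃ a, lin S.f a = m - σ (lin S.g m) := fun m =>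
    (ShortComplex.moduleCat_exact_iff _).1 hx.exact _ (hmem m)
  choose r hr using hr
  let R' : (St y).obj S.X₂ →ₗ[A] (St y).obj S.X₁ :=
    { toFun := r
      map_add' := fun a b => hinj (by rw [map_add, hr, hr, hr, map_add, map_add]; abel)
      map_smul' := fun a b => hinj (by
        rw [RingHom.id_apply, map_smul, hr, hr, map_smul, map_smul, smul_sub]) }
  refine Module.Flat.of_retract (lin S.f) R' (LinearMap.ext fun a => hinj ?_)
  show lin S.f (r (lin S.f a)) = lin S.f a
  rw [hr, show lin S.g (lin S.f a) = 0 from congr(($(show (St y).map S.f ≫ (St y).map S.g = 0 by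
    rw [← Functor.map_comp, S.zero, Functor.map_zero])).hom a), map_zero, sub_zero]

variable {X₀ : Scheme.{u}} {x : X₀ ⟶ specPt k} (ξ : DefSch X₀ x A)

theorem ker_stalkMap_i (z : X₀) :
    RingHom.ker (ξ.i.stalkMap z).hom = (IsLocalRing.maximalIdeal A).map (stA ξ.f (ξ.i z)) := by
  obtain ⟨U, hU, hzU, -⟩ := exists_isAffineOpen_mem_and_subset (x := ξ.i z) (U := ⊤) trivial
  rw [← DiagTorLib.stalkIdeal_ker, SDivLib.stalkIdeal_eq _ ⟨U, hU⟩ hzU, LiftThinLib.ideal_ker_i ξ hU, Ideal.map_map]
  exact congrArg (fun φ => Ideal.map φ _) (RingHom.ext fun a => (stA_eq ξ.f (ξ.i z) hzU a).symm)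

theorem mem_smul_of_psi_eq_zero {M : ξ.total.Modules} (z : X₀) {m : (St (ξ.i z)).obj M}
    (hm : m ∈ RingHom.ker (ξ.i.stalkMap z).hom • (⊤ : Submodule (ξ.total.presheaf.stalk (ξ.i z)) ((St (ξ.i z)).obj M))) :
    letI : Module A ((St (ξ.i z)).obj M) := Module.compHom _ (stA ξ.f (ξ.i z))
    m ∈ IsLocalRing.maximalIdeal A • (⊤ : Submodule A ((St (ξ.i z)).obj M)) := by
  letI : Module A ((St (ξ.i z)).obj M) := Module.compHom _ (stA ξ.f (ξ.i z))
  rw [ker_stalkMap_i] at hm
  refine Submodule.smul_induction_on hm (fun r hr q _ => ?_) fun a b ha hb => add_mem ha hb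
  induction hr using Submodule.span_induction generalizing q with
  | mem r hr =>
    obtain ⟨a, ha, rfl⟩ := hr
    exact Submodule.smul_mem_smul (N := (⊤ : Submodule A _)) ha trivial
  | zero => rw [zero_smul]; exact zero_mem _
  | add a b _ _ ha hb => rw [add_smul]; exact add_mem (ha q trivial) (hb q trivial)
  | smul c a _ ha =>
    rw [smul_eq_mul, mul_comm, mul_smul]
    exact ha _ trivial

/-- Restriction to the closed fibre of a sequence with flat quotient is exact on the left. -/
theorem mono_pull_i {S : ShortComplex ξ.total.Modules} (hS : S.ShortExact)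
    (h₃ : ∀ y, FlatA ξ.f S.X₃ y) : Mono ((Scheme.Modules.pullback ξ.i).map S.f) :=
  CohCmpLib.mono_of_stalk_injective fun z => by
    let y := ξ.i z
    letI : ∀ M : ξ.total.Modules, Module A ((St y).obj M) := fun M => Module.compHom _ (stA ξ.f y)
    let lin : ∀ {M N : ξ.total.Modules} (g : M ⟶ N), (St y).obj M →ₗ[A] (St y).obj N := fun g =>
      { toFun := ((St y).map g).hom, map_add' := map_add _, map_smul' := fun a m => stalk_map_smulA ξ.f g y a m }
    have hx := hS.map_of_exact (St y)
    have hinj : Function.Injective (lin S.f) := (ModuleCat.mono_iff_injective _).1 hx.mono_f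
    have hg : Function.Surjective (lin S.g) := (ModuleCat.epi_iff_surjective _).1 hx.epi_g
    haveI : Module.Flat A ((St y).obj S.X₃) := h₃ y
    obtain ⟨ψ₁, hl₁, hg₁, hs₁, -⟩ := exists_psiC ξ.i S.X₁ z
    obtain ⟨ψ₂, -, hg₂, -, hk₂⟩ := exists_psiC ξ.i S.X₂ z
    rw [injective_iff_map_eq_zero]
    intro b hb
    obtain ⟨m, rfl⟩ := hs₁ b
    change ((St z).map ((Scheme.Modules.pullback ξ.i).map S.f)).hom (ψ₁ m) = 0 at hb
    rw [psiC_natural ξ.i S.X₁ S.f z ψ₁ hg₁ ψ₂ hg₂] at hb
    have h1 : lin S.f m ∈ IsLocalRing.maximalIdeal A • (⊤ : Submodule A ((St y).obj S.X₂)) :=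
      mem_smul_of_psi_eq_zero ξ z (hk₂ _ hb)
    -- Write the image with coefficients in the maximal ideal.
    obtain ⟨n, a, q, hq⟩ : ∃ (n : ℕ) (a : Fin n → IsLocalRing.maximalIdeal A) (q : Fin n → (St y).obj S.X₂),
        ∑ i, (a i : A) • q i = lin S.f m := by
      clear hb
      revert h1
      generalize lin S.f m = w
      intro h1
      refine Submodule.smul_induction_on h1 (fun r hr q _ => ⟨1, fun _ => ⟨r, hr⟩, fun _ => q, by simp⟩) ?_
      rintro _ _ ⟨n, a, q, rfl⟩ ⟨n', a', q', rfl⟩
      exact ⟨n + n', Fin.append a a', Fin.append q q', by simp [Fin.sum_univ_add]⟩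
    have h0 : ∑ i, (a i : A) • lin S.g (q i) = 0 := by
      simp only [← map_smul, ← map_sum, hq]
      exact congr(($(show (St y).map S.f ≫ (St y).map S.g = 0 by
        rw [← Functor.map_comp, S.zero, Functor.map_zero])).hom m)
    obtain ⟨l, c, w, hw, hc⟩ := Module.Flat.isTrivialRelation_of_sum_smul_eq_zero h0
    choose w' hw' using fun j => hg (w j)
    have hmem : ∀ i, ∃ t, lin S.f t = q i - ∑ j, c i j • w' j := fun i =>
      (ShortComplex.moduleCat_exact_iff _).1 hx.exact _ (by
        show lin S.g (q i - ∑ j, c i j • w' j) = 0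
        rw [map_sub, map_sum, show lin S.g (q i) = _ from hw i, sub_eq_zero]
        exact Finset.sum_congr rfl fun j _ => by rw [map_smul, hw'])
    choose t ht using hmem
    have hm : m = ∑ i, (a i : A) • t i := hinj (by
      rw [map_sum, ← hq]
      simp only [map_smul, ht, smul_sub, Finset.sum_sub_distrib, Finset.smul_sum, smul_smul]
      rw [Finset.sum_comm]
      simp only [← Finset.sum_smul, hc, zero_smul, Finset.sum_const_zero, sub_zero])
    rw [hm, map_sum]
    refine Finset.sum_eq_zero fun i _ => ?_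
    show ψ₁ (stA ξ.f y (a i : A) • t i) = 0
    have hker : stA ξ.f y (a i : A) ∈ RingHom.ker (ξ.i.stalkMap z).hom := by
      rw [ker_stalkMap_i]
      exact Ideal.mem_map_of_mem _ (a i).2
    rw [hl₁, RingHom.mem_ker.1 hker, zero_smul]

end VBExtLib
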