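import Groth.Agent.VBExtLib.Qcoh
import Groth.Agent.ProjClosedImmLib.Stalk
import Groth.Agent.DegPullLib.Rank

/-!
# Flatness of an extension over a semismall thickening
-/

set_option autoImplicit false
set_option linter.style.haveILetI false
set_option linter.unusedSectionVars false
set_option backward.isDefEq.respectTransparency false
set_option maxHeartbeats 1000000
universe u

open CategoryTheory CategoryTheory.Limits AlgebraicGeometry TopologicalSpace Opposite
open ArtFun ArtFun.Art
open DevissLib (St gm gm_app exists_gm_eq)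
open scoped TensorProduct

noncomputable section

namespace VBExtLib

variable {k : Type u} [Field k] {X₀ : Scheme.{u}} {x : X₀ ⟶ specPt k} {B A : Art k k} (p : B ⟶ A)
  (ξ : DefSch X₀ x B)

theorem stA_map {W W' : Scheme.{u}} (g : W' ⟶ W) (f : W ⟶ spec B) (f' : W' ⟶ spec A)
    (h : g ≫ f = f' ≫ specMap p) (w : W') (b : B) :
    g.stalkMap w (stA f (g w) b) = stA f' w (p.toAlgHom b) := by
  rw [stA_eq f (g w) (U := ⊤) trivial, stA_eq f' w (U := g ⁻¹ᵁ ⊤) trivial, Scheme.Hom.germ_stalkMap_apply]
  congr 1
  have e : ∀ {T : Scheme.{u}} {a a' : W' ⟶ T} (_ : a = a') (h1 : g ⁻¹ᵁ ⊤ ≤ a ⁻¹ᵁ ⊤) (h2 : g ⁻¹ᵁ ⊤ ≤ a' ⁻¹ᵁ ⊤),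
      a.appLE ⊤ (g ⁻¹ᵁ ⊤) h1 = a'.appLE ⊤ (g ⁻¹ᵁ ⊤) h2 := fun h _ _ => by subst h; rfl
  have h1 := Scheme.Hom.appLE_comp_appLE g f ⊤ ⊤ (g ⁻¹ᵁ ⊤) le_top le_rfl
  have h2 := Scheme.Hom.appLE_comp_appLE f' (specMap p) ⊤ ⊤ (g ⁻¹ᵁ ⊤) le_top le_top
  rw [← Scheme.Hom.app_eq_appLE] at h1
  refine (congr($(h1.trans ((e h _ le_top).trans h2.symm)) _)).trans ?_
  show (f'.appLE ⊤ (g ⁻¹ᵁ ⊤) le_top) ((specMap p).appLE ⊤ ⊤ le_top _) = _
  congr 1
  rw [show (specMap p).appLE ⊤ ⊤ le_top = (specMap p).appTop from
    (Scheme.Hom.app_eq_appLE (f := specMap p) (U := ⊤)).symm]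
  exact congr($(Scheme.ΓSpecIso_inv_naturality (CommRingCat.ofHom p.toAlgHom.toRingHom)) b).symm

theorem ker_stalkMap_idT (hp : IsSemismallExt p) (w : (LiftThinLib.idT p ξ).subscheme) :
    RingHom.ker ((LiftThinLib.idT p ξ).subschemeι.stalkMap w).hom =
      (RingHom.ker p.toAlgHom).map (stA ξ.f ((LiftThinLib.idT p ξ).subschemeι w)) := by
  let y := (LiftThinLib.idT p ξ).subschemeι w
  obtain ⟨U, hU, hyU, -⟩ := exists_isAffineOpen_mem_and_subset (x := y) (U := ⊤) trivial
  rw [← DiagTorLib.stalkIdeal_ker, Scheme.IdealSheafData.ker_subschemeι, SDivLib.stalkIdeal_eq _ ⟨U, hU⟩ hyU,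
    LiftThinLib.ideal_idT p ξ hp hU, Ideal.map_map]
  exact congrArg (fun φ => Ideal.map φ _) (RingHom.ext fun a => (stA_eq ξ.f y hyU a).symm)

theorem flat_stA (y : ξ.total) : (stA ξ.f y).Flat :=
  RingHom.Flat.comp (RingHom.Flat.of_bijective (bijective_toStalk B _)) (Flat.stalkMap ξ.f y)

theorem coord_mem_stalk (hp : IsSemismallExt p) (y : ξ.total)
    (a : Fin (HilbObsTh.kdim p) → ξ.total.presheaf.stalk y)
    (ha : ∑ i, a i * stA ξ.f y (HilbObsTh.kbasis p i : B) = 0) (j : Fin (HilbObsTh.kdim p)) :
    a j ∈ (IsLocalRing.maximalIdeal B).map (stA ξ.f y) := by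
  letI : Algebra B (ξ.total.presheaf.stalk y) := (stA ξ.f y).toAlgebra
  haveI : Module.Flat B (ξ.total.presheaf.stalk y) := flat_stA ξ y
  have h0 : ∑ i, (HilbObsTh.kbasis p i : B) • a i = 0 := by
    refine Eq.trans (Finset.sum_congr rfl fun i _ => ?_) ha
    exact (Algebra.smul_def _ _).trans (mul_comm _ _)
  obtain ⟨l, c, z, hz, hc⟩ := Module.Flat.isTrivialRelation_of_sum_smul_eq_zero (R := (B : Type u))
    (M := ξ.total.presheaf.stalk y) (f := fun i => (HilbObsTh.kbasis p i : B)) (x := a) h0
  rw [show a j = _ from hz j]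
  refine Ideal.sum_mem _ fun m _ => ?_
  rw [Algebra.smul_def]
  refine Ideal.mul_mem_right _ _ (Ideal.mem_map_of_mem _ ?_)
  rw [mem_maximalIdeal_iff]
  have h1 : ∑ i, B.res (c i m) • HilbObsTh.kbasis p i = 0 := Subtype.ext (by
    rw [Submodule.coe_sum]
    refine (Finset.sum_congr rfl fun i _ => ?_).trans (hc m)
    refine (Algebra.smul_def _ _).trans ?_
    rw [mul_comm (HilbObsTh.kbasis p i : B), eq_comm, ← sub_eq_zero, ← sub_mul]
    have hm : c i m - algebraMap k B (B.res (c i m)) ∈ IsLocalRing.maximalIdeal B := by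
      rw [mem_maximalIdeal_iff, map_sub, B.res.commutes]
      exact sub_self _
    have h := Ideal.mul_mem_mul hm (HilbObsTh.kbasis p i).2
    rw [hp.2] at h
    exact (Submodule.mem_bot _).1 h)
  exact Fintype.linearIndependent_iff.1 (HilbObsTh.kbasis p).linearIndependent _ h1 j

/-- A lift with minimal multiplication kernel is flat. -/
theorem flatA_of_mono (hp : IsSemismallExt p) (f : (LiftThinLib.idT p ξ).subscheme ⟶ spec A)
    (hf : (LiftThinLib.idT p ξ).subschemeι ≫ ξ.f = f ≫ specMap p) {E : ξ.total.Modules}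
    (hE₀ : ∀ w, FlatA f ((Scheme.Modules.pullback (LiftThinLib.idT p ξ).subschemeι).obj E) w)
    (v : (TK (LiftThinLib.idT p ξ)).obj ((Scheme.Modules.pushforward (LiftThinLib.idT p ξ).subschemeι).obj
      ((Scheme.Modules.pullback (LiftThinLib.idT p ξ).subschemeι).obj E)) ⟶ E) [Mono v]
    (hv : (TK (LiftThinLib.idT p ξ)).map (eta (LiftThinLib.idT p ξ) E) ≫ v = mu (LiftThinLib.idT p ξ) E)
    (y : ξ.total) : FlatA ξ.f E y := by
  let I := LiftThinLib.idT p ξ
  haveI := SmDefLib.surjective_subschemeι (LiftThinLib.sq_idT p ξ hp)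
  obtain ⟨w, rfl⟩ := I.subschemeι.surjective y
  let G := (Scheme.Modules.pullback I.subschemeι).obj E
  obtain ⟨ψ, hψl, hψg, hψs, hψk⟩ := exists_psiC I.subschemeι E w
  let S := ξ.total.presheaf.stalk (I.subschemeι w)
  let φ := stA ξ.f (I.subschemeι w)
  let M := ((St (I.subschemeι w)).obj E : Type u)
  letI : Module B M := Module.compHom _ φ
  letI : Module A ((St w).obj G) := Module.compHom _ (stA f w)
  have hψB : ∀ (b : B) (m : M), ψ (b • m) = p.toAlgHom b • ψ m := fun b m =>
    (hψl (φ b) m).trans (congrArg (· • ψ m) (stA_map p I.subschemeι ξ.f f hf w b))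
  haveI : Module.Flat A ((St w).obj G) := hE₀ w
  haveI : Module.Free A ((St w).obj G) := DefLib.free_of_flat_of_nilpotent (isNilpotent_maximalIdeal A)
  obtain ⟨⟨ι, bas⟩⟩ := Module.Free.exists_basis (R := A) (M := (St w).obj G)
  choose e he using fun i => hψs (bas i)
  let Φ : (ι →₀ B) →ₗ[B] M := Finsupp.linearCombination B e
  have hψΦ : ∀ c : ι →₀ B, ψ (Φ c) = Finsupp.linearCombination A bas (c.mapRange p.toAlgHom (map_zero _)) :=
    fun c => by
      induction c using Finsupp.induction_linear with
      | zero => simp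
      | add c c' hc hc' =>
        rw [map_add, map_add, hc, hc', Finsupp.mapRange_add (map_add _), map_add]
      | single i b =>
        simp only [Φ, Finsupp.linearCombination_single, Finsupp.mapRange_single, hψB, he]
  have hsurj : Function.Surjective Φ := by
    let R := LinearMap.range Φ
    let J := (RingHom.ker p.toAlgHom)
    have h1 : ∀ m : M, ∃ r ∈ R, m - r ∈ J • (⊤ : Submodule B M) := fun m => by
      obtain ⟨c, hc⟩ := Finsupp.mapRange_surjective p.toAlgHom (map_zero _) hp.1 (bas.repr (ψ m))
      refine ⟨Φ c, ⟨c, rfl⟩, ?_⟩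
      have h0 := hψk (m - Φ c) (by rw [map_sub, hψΦ, hc, bas.linearCombination_repr, sub_self])
      rw [ker_stalkMap_idT p ξ hp] at h0
      refine Submodule.smul_induction_on h0 (fun r hr q _ => ?_) fun a b ha hb => add_mem ha hb
      induction hr using Submodule.span_induction generalizing q with
      | mem r hr =>
        obtain ⟨a, ha, rfl⟩ := hr
        exact Submodule.smul_mem_smul (N := (⊤ : Submodule B M)) ha trivial
      | zero => rw [zero_smul]; exact zero_mem _
      | add a b _ _ ha hb => rw [add_smul]; exact add_mem (ha q trivial) (hb q trivial)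
      | smul c a _ ha => rw [smul_eq_mul, mul_comm, mul_smul]; exact ha _ trivial
    have h2 : J • (⊤ : Submodule B M) ≤ R := by
      refine Submodule.smul_le.2 fun r hr q _ => ?_
      obtain ⟨r', hr', hq⟩ := h1 q
      have h0 : r • (q - r') = 0 := by
        refine Submodule.smul_induction_on hq (fun r'' hr'' q' _ => ?_)
          (fun a b ha hb => by rw [smul_add, ha, hb, add_zero])
        have h := Ideal.mul_mem_mul (LiftThinLib.ker_le_maximalIdeal p hr) hr''
        rw [hp.2] at h
        rw [smul_smul, (Submodule.mem_bot B).1 h, zero_smul]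
      rw [smul_sub, sub_eq_zero] at h0
      rw [h0]
      exact R.smul_mem r hr'
    intro m
    obtain ⟨r, hr, hm⟩ := h1 m
    have := R.add_mem hr (h2 hm)
    rwa [add_sub_cancel] at this
  have hinj : Function.Injective Φ := by
    rw [injective_iff_map_eq_zero]
    intro c hc
    have hJ : ∀ i, c i ∈ RingHom.ker p.toAlgHom := fun i => by
      have h0 := hψΦ c
      rw [hc, map_zero] at h0
      have h1 := bas.linearIndependent.finsuppLinearCombination_injective (h0.symm.trans (map_zero _).symm)
      exact DFunLike.congr_fun h1 i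
    let n := HilbObsTh.kdim p
    let lam : Fin n → ι →₀ k := fun l =>
      Finsupp.onFinset c.support (fun i => (HilbObsTh.kbasis p).repr ⟨c i, hJ i⟩ l) fun i hi => by
        rw [Finsupp.mem_support_iff]
        intro h
        exact hi (by
          show (HilbObsTh.kbasis p).repr ⟨c i, hJ i⟩ l = 0
          rw [show (⟨c i, hJ i⟩ : RingHom.ker p.toAlgHom) = 0 from Subtype.ext h, map_zero, Finsupp.zero_apply])
    let m : Fin n → M := fun l => Φ ((lam l).mapRange (algebraMap k B) (map_zero _))
    have hcl : c = ∑ l, (HilbObsTh.kbasis p l : B) • (lam l).mapRange (algebraMap k B) (map_zero _) := by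
      refine Finsupp.ext fun i => ?_
      rw [Finsupp.finset_sum_apply]
      have h := congrArg Subtype.val ((HilbObsTh.kbasis p).sum_repr ⟨c i, hJ i⟩)
      rw [Submodule.coe_sum] at h
      refine h.symm.trans (Finset.sum_congr rfl fun l _ => ?_)
      rw [Finsupp.smul_apply, Finsupp.mapRange_apply, Finsupp.onFinset_apply, smul_eq_mul, mul_comm]
      exact Algebra.smul_def _ _
    have hm0 : ∑ l, (HilbObsTh.kbasis p l : B) • m l = 0 := by
      rw [← hc]
      conv_rhs => rw [hcl, map_sum]
      exact Finset.sum_congr rfl fun l _ => (map_smul Φ _ _).symm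
    -- germs of the generators
    let P := (Scheme.Modules.pushforward I.subschemeι).obj G
    let kk : Fin n → (St (I.subschemeι w)).obj (ClSub.idealMod I) := fun l =>
      gm (ClSub.idealMod I) _ (U := ⊤) trivial (LiftThinLib.gen p ξ hp l)
    have hkk : ∀ l, fk I (I.subschemeι w) (kk l) = φ (HilbObsTh.kbasis p l : B) := fun l => by
      rw [fk_gm]
      refine (congrArg _ (LiftThinLib.exists_gen p ξ hp l).choose_spec).trans ?_
      exact (stA_eq ξ.f _ (U := ⊤) trivial _).symm
    let t : ((St (I.subschemeι w)).obj (ClSub.idealMod I) : Type u) ⊗[S] M := ∑ l, kk l ⊗ₜ m l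
    have hmu : ((St (I.subschemeι w)).map (mu I E)).hom (KFlatLib.stalkTensorLin _ E _ t) = 0 := by
      rw [map_sum, map_sum]
      refine (Finset.sum_congr rfl fun l _ => ?_).trans hm0
      rw [stalk_mu_tmul, hkk]
      rfl
    have h3 : ((St (I.subschemeι w)).map ((TK I).map (eta I E))).hom (KFlatLib.stalkTensorLin _ E _ t) = 0 := by
      refine InjModLib.stalk_injective v (I.subschemeι w) ?_
      rw [map_zero, ← hmu, ← hv, Functor.map_comp]
      rfl
    have h4 : KFlatLib.stalkTensorLin (ClSub.idealMod I) P (I.subschemeι w)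
        (((St (I.subschemeι w)).map (eta I E)).hom.lTensor _ t) = 0 :=
      (congr(($(KFlatLib.stalkTensorIso_natural_right (M := ClSub.idealMod I) (I.subschemeι w) (eta I E))).hom t)).trans h3
    have h5 : ((St (I.subschemeι w)).map (eta I E)).hom.lTensor ((St (I.subschemeι w)).obj (ClSub.idealMod I) : Type u) t = 0 :=
      (KFlatLib.stalkTensorLin_bijective (ClSub.idealMod I) P (I.subschemeι w)).1 (h4.trans (map_zero _).symm)
    -- coordinates on the ideal
    let N := ((St (I.subschemeι w)).obj P : Type u)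
    let 𝔪 : Ideal S := (IsLocalRing.maximalIdeal B).map φ
    let Q := N ⧸ (𝔪 • (⊤ : Submodule S N))
    have hex : ∀ a : (St (I.subschemeι w)).obj (ClSub.idealMod I), ∃ z : Fin n → S, ∑ l, z l • kk l = a := by
      intro a
      have h1 : fk I (I.subschemeι w) a ∈ (RingHom.ker p.toAlgHom).map φ := by
        rw [← ker_stalkMap_idT p ξ hp]
        exact stalkMap_fk I w a
      suffices h : ∀ r ∈ (RingHom.ker p.toAlgHom).map φ, ∃ z : Fin n → S, ∑ l, z l * φ (HilbObsTh.kbasis p l : B) = r by
        obtain ⟨z, hz⟩ := h _ h1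
        refine ⟨z, fk_injective I _ ?_⟩
        rw [map_sum, ← hz]
        exact Finset.sum_congr rfl fun l _ => by rw [map_smul, hkk, smul_eq_mul]
      intro r hr
      induction hr using Submodule.span_induction with
      | mem r hr =>
        obtain ⟨b, hb, rfl⟩ := hr
        refine ⟨fun l => φ (algebraMap k B ((HilbObsTh.kbasis p).repr ⟨b, hb⟩ l)), ?_⟩
        have h := congrArg Subtype.val ((HilbObsTh.kbasis p).sum_repr ⟨b, hb⟩)
        rw [Submodule.coe_sum] at h
        refine ((Finset.sum_congr rfl fun l _ => ?_).trans (map_sum φ _ _).symm).trans (congrArg φ h)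
        exact (map_mul φ _ _).symm.trans (congrArg _ (Algebra.smul_def _ _).symm)
      | zero => exact ⟨0, by simp⟩
      | add a a' _ _ ha ha' =>
        obtain ⟨z, rfl⟩ := ha
        obtain ⟨z', rfl⟩ := ha'
        exact ⟨z + z', by simp [add_mul, Finset.sum_add_distrib]⟩
      | smul r a _ ha =>
        obtain ⟨z, rfl⟩ := ha
        exact ⟨fun l => r * z l, by simp [Finset.mul_sum, mul_assoc]⟩
    choose zc hzc using hex
    have hwd : ∀ (z z' : Fin n → S), ∑ l, z l • kk l = ∑ l, z' l • kk l → ∀ (l : Fin n) (a : N),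
        (Submodule.Quotient.mk (z l • a) : Q) = Submodule.Quotient.mk (z' l • a) := fun z z' h l a => by
      rw [Submodule.Quotient.eq, ← sub_smul]
      refine Submodule.smul_mem_smul (coord_mem_stalk p ξ hp _ (z - z') ?_ l) trivial
      have h' := congrArg (fk I (I.subschemeι w)) h
      simp only [map_sum, map_smul, hkk, smul_eq_mul] at h'
      simp only [Pi.sub_apply, sub_mul, Finset.sum_sub_distrib, sub_eq_zero]
      exact h'
    let L : ((St (I.subschemeι w)).obj (ClSub.idealMod I) : Type u) ⊗[S] N →ₗ[S] (Fin n → Q) :=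
      TensorProduct.lift (LinearMap.mk₂ S (fun a q l => (Submodule.Quotient.mk (zc a l • q) : Q))
        (fun a a' q => funext fun l => by
          show (Submodule.Quotient.mk (zc (a + a') l • q) : Q) = Submodule.Quotient.mk (zc a l • q) +
            Submodule.Quotient.mk (zc a' l • q)
          rw [← Submodule.Quotient.mk_add, ← add_smul]
          refine hwd (zc (a + a')) (zc a + zc a') ?_ l q
          simp only [Pi.add_apply, add_smul, Finset.sum_add_distrib, hzc])
        (fun r a q => funext fun l => by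
          show (Submodule.Quotient.mk (zc (r • a) l • q) : Q) = r • Submodule.Quotient.mk (zc a l • q)
          rw [← Submodule.Quotient.mk_smul, smul_smul]
          refine hwd (zc (r • a)) (fun l => r * zc a l) ?_ l q
          simp only [mul_smul, ← Finset.smul_sum, hzc])
        (fun a q q' => funext fun l => by
          simp only [Pi.add_apply, smul_add, Submodule.Quotient.mk_add])
        (fun r a q => funext fun l => by
          show (Submodule.Quotient.mk (zc a l • r • q) : Q) = r • Submodule.Quotient.mk (zc a l • q)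
          rw [← Submodule.Quotient.mk_smul, smul_comm]))
    have hmem : ∀ l, ((St (I.subschemeι w)).map (eta I E)).hom (m l) ∈ 𝔪 • (⊤ : Submodule S N) := fun l => by
      classical
      have h6 := congrFun (congrArg L h5) l
      rw [map_zero, map_sum, map_sum, Finset.sum_apply, Pi.zero_apply] at h6
      have h7 : ∀ i, L (((St (I.subschemeι w)).map (eta I E)).hom.lTensor _ (kk i ⊗ₜ m i)) l =
          if i = l then Submodule.Quotient.mk (((St (I.subschemeι w)).map (eta I E)).hom (m i)) else 0 := fun i => by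
        show (Submodule.Quotient.mk (zc (kk i) l • ((St (I.subschemeι w)).map (eta I E)).hom (m i)) : Q) = _
        refine (hwd (zc (kk i)) (fun l => if i = l then 1 else 0) ?_ l _).trans ?_
        · rw [hzc]
          simp
        · split_ifs with h
          · rw [one_smul]
          · rw [zero_smul, Submodule.Quotient.mk_zero]
      rw [Finset.sum_congr rfl fun i _ => h7 i, Finset.sum_ite_eq'] at h6
      simp only [Finset.mem_univ, if_true] at h6
      exact (Submodule.Quotient.mk_eq_zero _).1 h6
    let g := ProjClosedImmLib.pushStalk I.subschemeι w G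
    have hgl : ∀ (r : S) (a : N), g (r • a) = I.subschemeι.stalkMap w r •
        (show (St w).obj G from g a) := fun r a => DegPullLib.stalkPushforward_smul I.subschemeι G w r a
    have hgη : ∀ a : M, (show (St w).obj G from g (((St (I.subschemeι w)).map (eta I E)).hom a)) = ψ a := fun a => by
      obtain ⟨U, hU, s, rfl⟩ := exists_gm_eq E (I.subschemeι w) a
      rw [hψg]
      refine (congrArg g (gm_app (eta I E) (I.subschemeι w) hU _)).trans ?_
      exact ProjClosedImmLib.pushStalk_germ I.subschemeι w G hU _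
    have hmA : ∀ l, ψ (m l) ∈ IsLocalRing.maximalIdeal A • (⊤ : Submodule A ((St w).obj G)) := fun l => by
      rw [← hgη]
      refine Submodule.smul_induction_on (hmem l) (fun r hr q _ => ?_) fun a b ha hb => by
        rw [map_add]; exact add_mem ha hb
      induction hr using Submodule.span_induction generalizing q with
      | mem r hr =>
        obtain ⟨b, hb, rfl⟩ := hr
        rw [hgl, stA_map p I.subschemeι ξ.f f hf w b]
        refine Submodule.smul_mem_smul (N := (⊤ : Submodule A _)) ?_ trivial
        rw [mem_maximalIdeal_iff, show A.res (p.toAlgHom b) = B.res b from congr($(p.res_comp) b)]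
        exact (mem_maximalIdeal_iff B b).1 hb
      | zero => rw [zero_smul, map_zero]; exact zero_mem _
      | add a b _ _ ha hb => rw [add_smul, map_add]; exact add_mem (ha q trivial) (hb q trivial)
      | smul c a _ ha => rw [smul_eq_mul, mul_comm, mul_smul]; exact ha _ trivial
    have hlam : ∀ l i, lam l i = 0 := fun l i => by
      have h0 : bas.repr (ψ (m l)) i ∈ IsLocalRing.maximalIdeal A := by
        refine Submodule.smul_induction_on (hmA l) (fun r hr q _ => ?_) fun a b ha hb => by
          rw [map_add, Finsupp.add_apply]; exact add_mem ha hb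
        rw [map_smul, Finsupp.smul_apply, smul_eq_mul]
        exact Ideal.mul_mem_right _ _ hr
      rw [show ψ (m l) = _ from hψΦ _, bas.repr_linearCombination, Finsupp.mapRange_apply, Finsupp.mapRange_apply,
        mem_maximalIdeal_iff, AlgHom.commutes, A.res.commutes] at h0
      exact h0
    refine hcl.trans (Finset.sum_eq_zero fun l _ => ?_)
    rw [show lam l = 0 from Finsupp.ext (hlam l), Finsupp.mapRange_zero, smul_zero]
  show Module.Flat B M
  exact Module.Flat.of_linearEquiv (LinearEquiv.ofBijective Φ ⟨hinj, hsurj⟩).symm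

end VBExtLib
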