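import Groth.Agent.VBExtLib.Main
import Groth.Agent.VBExtLib.FlatArt
import Groth.Agent.KFlatLib.TorAmpMore

/-!
# Obstructions computed on the closed fibre
-/

set_option autoImplicit false
set_option linter.style.haveILetI false
set_option linter.unusedSectionVars false
set_option backward.isDefEq.respectTransparency false
set_option maxHeartbeats 1000000
universe u

open CategoryTheory CategoryTheory.Limits AlgebraicGeometry
open CategoryTheory.Abelian
open ArtFun ArtFun.Art

noncomputable section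

namespace VBExtLib

variable {X : Scheme.{u}} (I : X.IdealSheafData) {E₀ : I.subscheme.Modules}
  {k : Type u} [Field k] {Z : Scheme.{u}} {x : Z ⟶ specPt k} {A : Art k k}
  (f : I.subscheme ⟶ spec A) (c : Z ⟶ I.subscheme)

local instance additive_pb {X Y : Scheme.{u}} (g : X ⟶ Y) : (Scheme.Modules.pullback g).Additive :=
  haveI : (Scheme.Modules.pullback g).IsLeftAdjoint :=
    (Scheme.Modules.pullbackPushforwardAdjunction g).isLeftAdjoint
  (Scheme.Modules.pullbackPushforwardAdjunction g).left_adjoint_additive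

theorem shortExact_pull [Flat f] (hc : IsPullback c x f (specRes A)) [IsClosedImmersion c]
    {S : ShortComplex I.subscheme.Modules} (hS : S.ShortExact) (h₃ : ∀ y, FlatA f S.X₃ y) :
    (S.map (Scheme.Modules.pullback c)).ShortExact := by
  haveI : (Scheme.Modules.pullback c).IsLeftAdjoint :=
    (Scheme.Modules.pullbackPushforwardAdjunction c).isLeftAdjoint
  let η : DefSch Z x A := ⟨I.subscheme, f, ‹Flat f›, c, hc⟩
  haveI := mono_pull_i η hS h₃
  haveI := hS.epi_g
  exact
    { exact := hS.exact.map_of_epi_of_preservesCokernel (Scheme.Modules.pullback c) hS.epi_g inferInstance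
      mono_f := ‹Mono ((Scheme.Modules.pullback η.i).map S.f)›
      epi_g := inferInstanceAs (Epi ((Scheme.Modules.pullback c).map S.g)) }

theorem flatA_pull_of_isFlat [Flat f] {P : X.Modules} (hP : FlatMod.IsFlat P) (y : I.subscheme) :
    FlatA f ((Scheme.Modules.pullback I.subschemeι).obj P) y :=
  (flatA_iff f _ y).2 (Groth.Agent.RelFlatLib.isFlatOver_of_isFlat f (KFlatLib.flat_pullback I.subschemeι hP) y)

theorem flatA_of_iso {M N : I.subscheme.Modules} (e : M ≅ N) (h : ∀ y, FlatA f M y) (y : I.subscheme) :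
    FlatA f N y :=
  (flatA_iff f _ y).2
    (Groth.Agent.RelFlatLib.isFlatOver_of_iso f e ((isFlatOver_iff f M).2 h) y)

/-- A retraction of the connecting map exists when the obstruction group on the closed fibre vanishes. -/
theorem exists_refined_flat (hI : I ^ 2 = ⊥) [Surjective I.subschemeι] [Flat f] (hc : IsPullback c x f (specRes A))
    [IsClosedImmersion c] [HasExt.{u} Z.Modules] [EnoughInjectives Z.Modules]
    (hE : ∀ y, FlatA f E₀ y) (hk : CycKSuppLib.Kil c (coef I E₀))
    (h2 : Subsingleton (Ext.{u} ((Scheme.Modules.pullback c).obj E₀) ((Scheme.Modules.pullback c).obj (coef I E₀)) 2)) :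
    ∃ (P' : X.Modules) (p' : P' ⟶ (Scheme.Modules.pushforward I.subschemeι).obj E₀) (_ : Epi p')
      (r : (Scheme.Modules.pullback I.subschemeι).obj (kernel p') ⟶ coef I E₀),
      FlatMod.IsFlat P' ∧ dd I p' ≫ r = 𝟙 _ := by
  let adj := Scheme.Modules.pullbackPushforwardAdjunction I.subschemeι
  let adjc := Scheme.Modules.pullbackPushforwardAdjunction c
  let pb := Scheme.Modules.pullback I.subschemeι
  let pf := Scheme.Modules.pushforward I.subschemeι
  let Φ := Scheme.Modules.pullback c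
  let G := pf.obj E₀
  let P := KFlatLib.cover.obj G
  let p : P ⟶ G := (KFlatLib.coverπ).app G
  haveI : pb.IsLeftAdjoint := adj.isLeftAdjoint
  haveI : Φ.IsLeftAdjoint := adjc.isLeftAdjoint
  haveI := CycKSuppLib.isIso_counit I.subschemeι E₀
  have hG : ∀ y, FlatA f (pb.obj G) y := flatA_of_iso I f (asIso (adj.counit.app E₀)).symm hE
  have hseq : ∀ (Q : X.Modules) (π : Q ⟶ G) [Epi π], FlatMod.IsFlat Q →
      ∃ (g : pb.obj (kernel π) ⟶ kernel (pb.map π)) (w : dd I π ≫ g = 0),
        g ≫ kernel.ι _ = pb.map (kernel.ι π) ∧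
        ((ShortComplex.mk (dd I π) g w).map Φ).ShortExact ∧
        ((ShortComplex.mk (kernel.ι (pb.map π)) (pb.map π) (kernel.condition _)).map Φ).ShortExact := by
    intro Q π _ hQ
    obtain ⟨g, w, hg, hS⟩ := shortExact_dd I π hI hQ
    let S₂ := ShortComplex.mk (kernel.ι (pb.map π)) (pb.map π) (kernel.condition _)
    have hS₂ : S₂.ShortExact :=
      { exact := S₂.exact_of_f_is_kernel (kernelIsKernel _), mono_f := inferInstance
        epi_g := inferInstanceAs (Epi (pb.map π)) }
    have hK : ∀ y, FlatA f (kernel (pb.map π)) y := fun y =>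
      flatA_kernel f hS₂ y (flatA_pull_of_isFlat I f hQ y) (hG y)
    exact ⟨g, w, hg, shortExact_pull I f c hc hS hK, shortExact_pull I f c hc hS₂ hG⟩
  obtain ⟨g, w, hg, hS₁, hS₂⟩ := hseq P p (KFlatLib.cover_flat G)
  let e₀ : Φ.obj (pb.obj G) ≅ Φ.obj E₀ := Φ.mapIso (asIso (adj.counit.app E₀))
  have hz : hS₂.extClass.comp hS₁.extClass (rfl : 1 + 1 = 2) = 0 := by
    have h : ∀ e : Ext.{u} (Φ.obj (pb.obj G)) (Φ.obj (coef I E₀)) 2, e = 0 := fun e => by
      have : (Ext.mk₀ e₀.hom).comp ((Ext.mk₀ e₀.inv).comp e (zero_add 2)) (zero_add 2) = e := by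
        rw [← Ext.comp_assoc_of_second_deg_zero, Ext.mk₀_comp_mk₀, Iso.hom_inv_id, Ext.mk₀_id_comp]
      rw [← this, @Subsingleton.elim _ h2 ((Ext.mk₀ e₀.inv).comp e (zero_add 2)) 0, Ext.comp_zero]
    exact h _
  obtain ⟨ζ, hζ⟩ := Ext.contravariant_sequence_exact₁ hS₂ _ hS₁.extClass (rfl : 1 + 1 = 2) hz
  let W := Φ.obj (coef I E₀)
  let S₃ := ShortComplex.mk (Injective.ι W) (cokernel.π (Injective.ι W)) (cokernel.condition _)
  have hS₃ : S₃.ShortExact :=
    { exact := S₃.exact_of_g_is_cokernel (cokernelIsCokernel _), mono_f := inferInstance, epi_g := inferInstance }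
  haveI : Injective S₃.X₂ := inferInstanceAs (Injective (Injective.under _))
  obtain ⟨φ, hφ⟩ := PnDualLib.coDel₀_surjective (R := ℤ) hS₃ (A := Φ.obj (pb.obj P)) ζ
  let q : pullback φ S₃.g ⟶ Φ.obj (pb.obj P) := pullback.fst φ S₃.g
  haveI : Epi S₃.g := hS₃.epi_g
  haveI : Epi q := inferInstanceAs (Epi (pullback.fst φ S₃.g))
  have hqζ : (Ext.mk₀ q).comp ζ (zero_add 1) = 0 := by
    rw [← hφ]
    show (Ext.mk₀ q).comp ((Ext.mk₀ φ).comp hS₃.extClass (zero_add 1)) (zero_add 1) = 0
    rw [← Ext.comp_assoc_of_second_deg_zero, Ext.mk₀_comp_mk₀, show q ≫ φ = pullback.snd φ S₃.g ≫ S₃.g from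
      pullback.condition, ← Ext.mk₀_comp_mk₀, Ext.comp_assoc_of_second_deg_zero, hS₃.comp_extClass, Ext.comp_zero]
  let adj2 := adj.comp adjc
  haveI : Epi ((Scheme.Modules.pushforward c).map q) := by
    haveI : IsClosedImmersion c := ‹_›
    exact epi_push c q
  haveI : Epi (pf.map ((Scheme.Modules.pushforward c).map q)) := epi_pf I _
  let R2 := Scheme.Modules.pushforward c ⋙ pf
  haveI : Epi (R2.map q) := ‹Epi (pf.map ((Scheme.Modules.pushforward c).map q))›
  let P'' := pullback (adj2.unit.app P) (R2.map q)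
  let P' := KFlatLib.cover.obj P''
  let cv : P' ⟶ P'' := (KFlatLib.coverπ).app P''
  let a : P' ⟶ P := cv ≫ pullback.fst _ _
  haveI : Epi a := inferInstanceAs (Epi (cv ≫ pullback.fst _ _))
  let p' := a ≫ p
  haveI : Epi p' := inferInstanceAs (Epi (a ≫ p))
  let u₀ : Φ.obj (pb.obj P') ⟶ pullback φ S₃.g := (adj2.homEquiv _ _).symm (cv ≫ pullback.snd _ _)
  have hu : u₀ ≫ q = Φ.map (pb.map a) := by
    apply (adj2.homEquiv _ _).injective
    rw [Adjunction.homEquiv_naturality_right, Equiv.apply_symm_apply, Category.assoc, ← pullback.condition,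
      ← Category.assoc, Adjunction.homEquiv_unit]
    exact adj2.unit.naturality a
  let b : kernel p' ⟶ kernel p := kernel.lift p (kernel.ι p' ≫ a) (by
    rw [Category.assoc]; exact kernel.condition p')
  have hb : b ≫ kernel.ι p = kernel.ι p' ≫ a := kernel.lift_ι _ _ _
  have hdb : dd I p' ≫ pb.map b = dd I p := by
    apply (adj.homEquiv _ _).injective
    rw [Adjunction.homEquiv_naturality_right, show adj.homEquiv _ _ (dd I p') = delta I p' from
      Equiv.apply_symm_apply _ _, show adj.homEquiv _ _ (dd I p) = delta I p from Equiv.apply_symm_apply _ _,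
      ← cancel_epi ((TK I).map p')]
    rw [map_p_delta_assoc, ← eta_natural]
    have hm : toKer I p' ≫ b = (TK I).map a ≫ toKer I p := by
      rw [← cancel_mono (kernel.ι p), Category.assoc, hb, toKer_ι_assoc, Category.assoc, toKer_ι, mu_natural]
    rw [reassoc_of% hm, ← map_p_delta, ← Functor.map_comp_assoc]
  obtain ⟨g', w', hg', hS₁', hS₂'⟩ := hseq P' p' (KFlatLib.cover_flat P'')
  let β : kernel (pb.map p') ⟶ kernel (pb.map p) :=
    kernel.lift _ (kernel.ι _ ≫ pb.map a) (by
      rw [Category.assoc, ← Functor.map_comp]; exact kernel.condition _)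
  have hβ : β ≫ kernel.ι _ = kernel.ι _ ≫ pb.map a := kernel.lift_ι _ _ _
  have hβη : (Ext.mk₀ (Φ.map β)).comp hS₁.extClass (zero_add 1) = 0 := by
    rw [← hζ]
    show (Ext.mk₀ (Φ.map β)).comp ((Ext.mk₀ (Φ.map (kernel.ι (pb.map p)))).comp ζ (zero_add 1)) (zero_add 1) = 0
    rw [← Ext.comp_assoc_of_second_deg_zero, Ext.mk₀_comp_mk₀, ← Functor.map_comp, hβ, Φ.map_comp (kernel.ι (pb.map p')) (pb.map a), ← hu,
      ← Category.assoc, ← Ext.mk₀_comp_mk₀, Ext.comp_assoc_of_second_deg_zero, hqζ, Ext.comp_zero]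
  obtain ⟨s₀, hs₀⟩ := Ext.covariant_sequence_exact₃ _ hS₁ (Ext.mk₀ (Φ.map β)) (zero_add 1) hβη
  obtain ⟨s', rfl⟩ := (Ext.mk₀_bijective _ _).2 s₀
  rw [Ext.mk₀_comp_mk₀] at hs₀
  let s : Φ.obj (kernel (pb.map p')) ⟶ Φ.obj (pb.obj (kernel p)) := s'
  have hs : s ≫ Φ.map g = Φ.map β := (Ext.mk₀_bijective _ _).1 hs₀
  have hgb : pb.map b ≫ g = g' ≫ β := by
    rw [← cancel_mono (kernel.ι (pb.map p)), Category.assoc, Category.assoc, hg, hβ, ← Functor.map_comp, hb,
      Functor.map_comp, reassoc_of% hg']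
  have h0 : (Φ.map (pb.map b) - Φ.map g' ≫ s) ≫ Φ.map g = 0 := by
    rw [Preadditive.sub_comp, Category.assoc, hs, ← Functor.map_comp, ← Functor.map_comp, hgb, sub_self]
  obtain ⟨r₀, hr₀⟩ := KernelFork.IsLimit.lift' hS₁.fIsKernel _ h0
  haveI := hS₁.mono_f
  haveI : Mono (Φ.map (dd I p)) := hS₁.mono_f
  have hr' : r₀ ≫ Φ.map (dd I p) = Φ.map (pb.map b) - Φ.map g' ≫ s := hr₀
  have hr1 : Φ.map (dd I p') ≫ r₀ = 𝟙 _ := by
    rw [← cancel_mono (Φ.map (dd I p)), Category.assoc, hr', Preadditive.comp_sub, ← Functor.map_comp, hdb,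
      ← Functor.map_comp_assoc, w', Functor.map_zero, zero_comp, sub_zero, Category.id_comp]
  haveI : IsIso (adjc.unit.app (coef I E₀)) := DevissLib.isIso_unit_of_killed c hk.killed
  refine ⟨P', p', inferInstance, adjc.homEquiv _ _ r₀ ≫ inv (adjc.unit.app (coef I E₀)), KFlatLib.cover_flat P'', ?_⟩
  rw [← Category.assoc, IsIso.comp_inv_eq, Category.id_comp, ← adjc.homEquiv_naturality_left, hr1]
  exact adjc.homEquiv_id _

end VBExtLib
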